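import Groth.Agent.DetModLib.Modif
import Groth.Agent.IntMultLib.Cartier
import Groth.Agent.Ref1Lib.DivProps
import Groth.Agent.HilbPolyLib.Twist

/-!
# The divisor of the dual of the ideal of an integral Cartier divisor
-/

set_option autoImplicit false
set_option linter.style.haveILetI false
universe u

open CategoryTheory AlgebraicGeometry TopologicalSpace

noncomputable section

namespace DetModLib

open Ref1Lib (spec spec_germ spec_smul spec_map)
open RefHullLib (specializes_generic mem_of_nonempty)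

variable {X : Scheme.{u}} [IsIntegral X] [IsLocallyNoetherian X] (I : X.IdealSheafData)

/-- The germs of a local equation: units off the subscheme, killed on it. -/
theorem stalkMap_germ_eq_zero {U : X.affineOpens} {b : Γ(X, U.1)} (hb : b ∈ I.ideal U) (z : I.subscheme)
    (hz : I.subschemeι z ∈ U.1) :
    I.subschemeι.stalkMap z (X.presheaf.germ U.1 (I.subschemeι z) hz b) = 0 := by
  rw [Scheme.Hom.germ_stalkMap_apply]
  rw [← I.ker_subschemeι_app U, RingHom.mem_ker] at hb
  rw [hb, map_zero]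

omit [IsIntegral X] [IsLocallyNoetherian X] in
theorem isUnit_germ_of_notMem {U : X.affineOpens} {f : Γ(X, U.1)} (hf : I.ideal U = Ideal.span {f}) {x : X}
    (hxU : x ∈ U.1) (hx : x ∉ Set.range I.subschemeι) : IsUnit (X.presheaf.germ U.1 x hxU f) := by
  rw [Scheme.IdealSheafData.range_subschemeι] at hx
  refine (X.mem_basicOpen f x hxU).1 ?_
  by_contra h
  refine hx ?_
  have h2 : x ∈ X.zeroLocus (U := U.1) ↑(I.ideal U) ∩ U.1 := by
    refine ⟨?_, hxU⟩
    rw [hf, Scheme.zeroLocus_span, Scheme.mem_zeroLocus_iff]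
    intro g hg
    rw [Set.mem_singleton_iff.1 hg]
    exact h
  rw [← I.coe_support_inter U] at h2
  exact h2.1

/-- The generic point is not on a Cartier divisor. -/
theorem generic_notMem (hI : BlowUp.IsEffCartierIdeal I) : genericPoint X ∉ Set.range I.subschemeι := by
  rintro ⟨z, hz⟩
  obtain ⟨U, hxU, f, hf, hIU⟩ := hI (I.subschemeι z)
  have hf0 : X.presheaf.germ U.1 (genericPoint X) (hz ▸ hxU) f ≠ 0 := by
    haveI : Nonempty U.1 := ⟨⟨_, hxU⟩⟩
    exact Ref1Lib.germ_ne_zero _ (nonZeroDivisors.ne_zero hf)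
  have h1 : genericPoint X ∈ X.basicOpen f :=
    (X.mem_basicOpen f _ _).2 (Ne.isUnit (G₀ := X.functionField) hf0)
  rw [← hz] at h1
  have h2 := ((X.mem_basicOpen f _ hxU).1 h1).map (I.subschemeι.stalkMap z).hom
  rw [stalkMap_germ_eq_zero I (hIU ▸ Ideal.mem_span_singleton_self f) z hxU] at h2
  exact not_isUnit_zero h2

section

variable [IsIntegral I.subscheme]

/-- The image of the generic point of the subscheme. -/
abbrev dlt : X := I.subschemeι (genericPoint I.subscheme)

theorem notMem_of_ne (hI : BlowUp.IsEffCartierIdeal I) {x : X} (hx : Order.coheight x = 1)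
    (hne : x ≠ dlt I) : x ∉ Set.range I.subschemeι := by
  rintro ⟨z, rfl⟩
  have hs : dlt I ⤳ I.subschemeι z :=
    (RefHullLib.specializes_generic z).map I.subschemeι.continuous
  have hlt : I.subschemeι z < dlt I :=
    lt_iff_le_not_ge.2 ⟨hs, fun h => hne (Specializes.antisymm h hs).eq⟩
  have h0 : Order.coheight (dlt I) = 0 := by
    have h1 : Order.coheight (dlt I) < 1 := hx ▸
      Order.coheight_strictAnti hlt (lt_of_le_of_lt (Order.coheight_anti hlt.le) (by rw [hx]; exact ENat.coe_lt_top 1))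
    exact Order.lt_one_iff.1 h1
  refine generic_notMem I hI ⟨genericPoint I.subscheme, ?_⟩
  exact ((specializes_generic (dlt I)).antisymm
    ((Order.coheight_eq_zero.1 h0) (specializes_generic (dlt I)))).eq.symm

/-- The kernel at the generic point of the divisor is generated by a local equation. -/
theorem ker_dlt_le {U : X.affineOpens} {f : Γ(X, U.1)} (hf : I.ideal U = Ideal.span {f}) (hU : dlt I ∈ U.1)
    {a : X.presheaf.stalk (dlt I)} (ha : I.subschemeι.stalkMap (genericPoint I.subscheme) a = 0) :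
    a ∈ Ideal.span {X.presheaf.germ U.1 (dlt I) hU f} := by
  letI := X.presheaf.algebra_section_stalk ⟨dlt I, hU⟩
  haveI := U.2.isLocalization_stalk ⟨dlt I, hU⟩
  obtain ⟨b, s, rfl⟩ := IsLocalization.exists_mk'_eq (U.2.primeIdealOf ⟨dlt I, hU⟩).asIdeal.primeCompl a
  rw [IsLocalization.mk'_eq_mul_mk'_one, mul_comm]
  refine Ideal.mul_mem_left _ _ ?_
  have hb : X.presheaf.germ U.1 (dlt I) hU b =
      IsLocalization.mk' _ b s * algebraMap Γ(X, U.1) _ (s : Γ(X, U.1)) := (IsLocalization.mk'_spec _ b s).symm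
  have h0 : I.subschemeι.stalkMap (genericPoint I.subscheme) (X.presheaf.germ U.1 (dlt I) hU b) = 0 := by
    rw [hb, map_mul, ha, zero_mul]
  rw [Scheme.Hom.germ_stalkMap_apply] at h0
  haveI : Nonempty ↥(I.subschemeι ⁻¹ᵁ U.1) := ⟨⟨_, hU⟩⟩
  have h1 : I.subschemeι.app U.1 b = 0 := by
    by_contra hne
    exact hne (germ_injective_of_isIntegral I.subscheme _ _ (h0.trans (map_zero _).symm))
  have h2 : b ∈ I.ideal U := by
    rw [← I.ker_subschemeι_app U, RingHom.mem_ker]; exact h1
  rw [hf, Ideal.mem_span_singleton] at h2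
  exact Ideal.mem_span_singleton.2 (map_dvd (X.presheaf.germ U.1 (dlt I) hU).hom h2)

/-- The divisor of the ideal: minus the generic point. -/
theorem hasDiv_idealMod (hX : Pi1.IsNormalScheme X) (hI : BlowUp.IsEffCartierIdeal I) :
    Ref1Lib.HasDiv (ClSub.idealMod I) (fun x => by classical exact if x = dlt I then -1 else 0) := by
  classical
  let T := ClSub.idealMod I
  have hT : RefHull.IsRef1 T := Ref1Lib.isRef1_of_invertible (IntMultLib.isInvertible_idealMod I hI)
  let one : ∀ y : X, (Coh.structureModule X).presheaf.stalk y := fun y =>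
    (Coh.structureModule X).presheaf.germ ⊤ y trivial (1 : Γ(X, ⊤))
  have hone : ∀ y : X, Ref1Lib.FreeGen (Coh.structureModule X) y (one y) := fun y =>
    (AmpleLib.one_genOn (X := X) ⊤).genAt (x := y) trivial
  have hgerm : ∀ {y : X} {W : X.Opens} (hy : y ∈ W) (s : Γ(X, W)),
      (Coh.structureModule X).presheaf.germ W y hy s = X.presheaf.germ W y hy s • one y := by
    intro y W hy s
    have h1 : one y = (Coh.structureModule X).presheaf.germ W y hy (1 : Γ(X, W)) := by
      have h2 := TopCat.Presheaf.germ_res_apply (Coh.structureModule X).presheaf (homOfLE le_top : W ⟶ ⊤) y hy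
        (1 : Γ(X, ⊤))
      exact h2.symm.trans (congrArg ((Coh.structureModule X).presheaf.germ W y hy)
        (map_one (X.presheaf.map (homOfLE le_top : W ⟶ ⊤).op).hom))
    rw [h1]
    refine Eq.trans ?_ (Mero.germ_smul (Coh.structureModule X) W y hy s _)
    exact congrArg ((Coh.structureModule X).presheaf.germ W y hy) (mul_one s).symm
  let ιT := ClSub.idealModι I
  -- the rational section `1`
  obtain ⟨U, hηU, f, hf, hIU⟩ := hI (genericPoint X)
  obtain ⟨σ, hσ⟩ := IntMultLib.exists_section I U (show f ∈ I.ideal U from hIU ▸ Ideal.mem_span_singleton_self f)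
  obtain ⟨u, hu⟩ := isUnit_germ_of_notMem I hIU hηU (generic_notMem I hI)
  let e := (u⁻¹ : (X.presheaf.stalk (genericPoint X))ˣ).1 • T.presheaf.germ U.1 _ hηU σ
  have hιgerm : ∀ {y : X} {W : X.Opens} (hy : y ∈ W) (s : Γ(T, W)) (c : Γ(X, W)), ιT.app W s = c →
      RefHull.stalkMapₗ ιT y (T.presheaf.germ W y hy s) = X.presheaf.germ W y hy c • one y := by
    intro y W hy s c hc
    refine Eq.trans ?_ ((congrArg ((Coh.structureModule X).presheaf.germ W y hy) hc).trans (hgerm hy c))
    exact TopCat.Presheaf.stalkFunctor_map_germ_apply W y hy _ s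
  have he : RefHull.stalkMapₗ ιT (genericPoint X) e = one _ := by
    rw [map_smul, hιgerm hηU σ f hσ, smul_smul, ← hu]
    exact (congrArg (· • one _) (Units.inv_mul u)).trans (one_smul _ _)
  refine ⟨e, fun h0 => Ref1Lib.freeGen_ne_zero (hone _) (he.symm.trans ((congrArg _ h0).trans (map_zero _))),
    fun x hx => ?_⟩
  obtain ⟨t, ht⟩ := Ref1Lib.exists_freeGen hX hT hx
  obtain ⟨g, hg⟩ := (hone x).2 (RefHull.stalkMapₗ ιT x t)
  obtain ⟨φ, hφ⟩ := Ref1Lib.exists_eq_smul_spec hT (Ref1Lib.freeGen_ne_zero ht) e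
  rw [Ref1Lib.secOrdAt_free T hx _ (fun h0 => Ref1Lib.freeGen_ne_zero (hone _)
    (he.symm.trans ((congrArg _ h0).trans (map_zero _)))) ht hφ]
  have hφg : φ * algebraMap _ X.functionField g = 1 := by
    refine (hone (genericPoint X)).1 ?_
    show (φ * algebraMap _ X.functionField g) • one _ = (1 : X.presheaf.stalk (genericPoint X)) • one _
    rw [one_smul, mul_smul]
    refine Eq.trans ?_ he
    rw [hφ, map_smul, ← spec_map, ← hg, spec_smul]
    congr 2
    exact (spec_germ (Coh.structureModule X) (U := ⊤) trivial (1 : Γ(X, ⊤))).symm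
  have hg0 : g ≠ 0 := fun h0 => by rw [h0, map_zero, mul_zero] at hφg; exact zero_ne_one hφg
  have hordφ : Scheme.ord (X := X) φ x = - Scheme.ord (algebraMap _ X.functionField g) x := by
    rw [eq_inv_of_mul_eq_one_left hφg, CDivCoreLib.ord_inv
      ((map_ne_zero_iff _ (IsFractionRing.injective _ X.functionField)).2 hg0)]
  rw [hordφ, ord_algebraMap hx hg0]
  obtain ⟨U', hxU', f', hf', hIU'⟩ := hI x
  obtain ⟨σ', hσ'⟩ := IntMultLib.exists_section I U'
    (show f' ∈ I.ideal U' from hIU' ▸ Ideal.mem_span_singleton_self f')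
  obtain ⟨c, hc⟩ := ht.2 (T.presheaf.germ U'.1 x hxU' σ')
  have hfg : X.presheaf.germ U'.1 x hxU' f' = c * g := by
    refine (hone x).1 ?_
    show X.presheaf.germ U'.1 x hxU' f' • one x = (c * g) • one x
    rw [← hιgerm hxU' σ' f' hσ', ← hc, map_smul, ← hg, mul_smul]
  by_cases hxd : x = dlt I
  · subst hxd
    dsimp only
    rw [if_pos rfl]
    let ρ := (I.subschemeι.stalkMap (genericPoint I.subscheme)).hom
    have hgker : ρ g = 0 := by
      obtain ⟨W, hW, τ, rfl⟩ := T.presheaf.exists_germ_eq (x := dlt I) t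
      rw [hιgerm hW τ _ rfl] at hg
      rw [(hone (dlt I)).1 hg]
      refine (Scheme.Hom.germ_stalkMap_apply I.subschemeι W _ hW _).trans ?_
      have h0 : (ClSub.toSubscheme I).app W (ιT.app W τ) = 0 :=
        congrArg (fun χ : T ⟶ _ => χ.app W τ) (CategoryTheory.Limits.kernel.condition (ClSub.toSubscheme I))
      exact (congrArg _ h0).trans (map_zero _)
    have hspan : (Ideal.span {g} : Ideal (X.presheaf.stalk (dlt I))) = RingHom.ker ρ := by
      refine le_antisymm ((Ideal.span_singleton_le_iff_mem _).2 hgker) fun a ha => ?_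
      have h1 := ker_dlt_le I hIU' hxU' ha
      rw [hfg, Ideal.mem_span_singleton] at h1
      exact Ideal.mem_span_singleton.2 ((dvd_mul_left g c).trans h1)
    have hmax : (RingHom.ker ρ).IsMaximal :=
      RingHom.ker_isMaximal_of_surjective (K := I.subscheme.functionField) ρ
        (I.subschemeι.stalkMap_surjective (genericPoint I.subscheme))
    haveI : IsSimpleModule (X.presheaf.stalk (dlt I))
        (X.presheaf.stalk (dlt I) ⧸ (Ideal.span {g} : Ideal (X.presheaf.stalk (dlt I)))) :=
      isSimpleModule_iff_isCoatom.2 (hspan ▸ hmax.out)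
    rw [Ring.ord, Module.length_eq_one]
    rfl
  · dsimp only
    rw [if_neg hxd]
    have hu' : IsUnit g := isUnit_of_mul_isUnit_right
      (hfg ▸ isUnit_germ_of_notMem I hIU' hxU' (notMem_of_ne I hI hx hxd))
    rw [← ord_algebraMap hx hg0, Ref1Lib.units_spec hx hu', neg_zero]

theorem invertible_of_ref1 (hreg : ∀ x : X, IsRegularLocalRing (X.presheaf.stalk x)) {N : X.Modules}
    (hN : RefHull.IsRef1 N) : PicF.IsInvertible N := by
  have hg : ∀ x : X, ∃ (U : X.Opens) (_ : x ∈ U) (τ : Γ(N, U)), AmpleLib.GenOn N τ := fun x => by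
    haveI := hreg x
    haveI := PurityLib.ufd_of_regular (X.presheaf.stalk x)
    obtain ⟨t, ht⟩ := Ref1Lib.exists_freeGen_of_ufd hN x
    exact Ref1Lib.exists_genOn_of_freeGen hN ht
  choose U hU τ hτ using hg
  exact TwistLib.isInvertible_of_genOn U (fun x => ⟨x, hU x⟩) τ hτ

theorem hasDiv_tensor (hX : Pi1.IsNormalScheme X) {A B : X.Modules} (hA : PicF.IsInvertible A)
    (hB : PicF.IsInvertible B) {D E : X → ℤ} (hD : Ref1Lib.HasDiv A D) (hE : Ref1Lib.HasDiv B E) :
    Ref1Lib.HasDiv (CohB1.tensorMod A B) (D + E) := by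
  have hA1 := Ref1Lib.isRef1_of_invertible hA
  have hB1 := Ref1Lib.isRef1_of_invertible hB
  haveI : IsIso (RefHull.bidualMap (CohB1.tensorMod A B)) :=
    (Ref1Lib.isRef1_of_invertible (HilbPolyLib.isInvertible_tensor hA hB)).2.1
  exact Ref1Lib.hasDiv_of_iso hX (Ref1Lib.isRef1_ddualTensor hA1 hB1)
    (asIso (RefHull.bidualMap (CohB1.tensorMod A B))).symm (Ref1Lib.hasDiv_ddualTensor hX hA1 hB1 hD hE)

theorem tensorPow_dual (hreg : ∀ x : X, IsRegularLocalRing (X.presheaf.stalk x))
    (hI : BlowUp.IsEffCartierIdeal I) (k : ℕ) :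
    PicF.IsInvertible (CohB1.tensorPow (RefHull.dual (ClSub.idealMod I)) k) ∧
      Ref1Lib.HasDiv (CohB1.tensorPow (RefHull.dual (ClSub.idealMod I)) k)
        (fun x => by classical exact if x = dlt I then (k : ℤ) else 0) := by
  classical
  have hX := isNormal_of_regular hreg
  have hT1 := Ref1Lib.isRef1_of_invertible (IntMultLib.isInvertible_idealMod I hI)
  induction k with
  | zero =>
    refine ⟨invertible_of_ref1 hreg Ref1Lib.isRef1_unit, ?_⟩
    obtain ⟨v, hv, hD⟩ := Ref1Lib.hasDiv_unit (X := X)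
    exact ⟨v, hv, fun x hx => (hD x hx).trans (by simp)⟩
  | succ k ih =>
    have hd : PicF.IsInvertible (RefHull.dual (ClSub.idealMod I)) :=
      invertible_of_ref1 hreg (Ref1Lib.isRef1_dual hT1)
    refine ⟨HilbPolyLib.isInvertible_tensor ih.1 hd, ?_⟩
    have h := hasDiv_tensor hX ih.1 hd ih.2
      (Ref1Lib.hasDiv_dual hX hT1 (hasDiv_idealMod I hX hI))
    refine (congrArg (Ref1Lib.HasDiv (X := X) _) (funext fun x => ?_)).mp h
    simp only [Pi.add_apply, Pi.neg_apply]
    split <;> simp

end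

end DetModLib

end
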