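import Groth.Agent.DetModLib.Wedge
import Groth.Agent.Ref1Lib.Divs
import Groth.Agent.Ref1Lib.Invertible
import Groth.Agent.RhoBigLib.DetHull
import Groth.Agent.RefHullLib.NormalHull
import Groth.Agent.PurityLib.Prep
import Groth.Agent.CDivCoreLib.Normal

/-!
# Divisors of determinants
-/

set_option autoImplicit false
set_option linter.style.haveILetI false
universe u

open CategoryTheory AlgebraicGeometry TopologicalSpace

noncomputable section

namespace DetModLib

open Ref1Lib (spec spec_germ spec_smul spec_map)
open RefHullLib (specializes_generic)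

variable {X : Scheme.{u}} [IsIntegral X] [IsLocallyNoetherian X] {r : ℕ}

theorem isNormal_of_regular (hreg : ∀ x : X, IsRegularLocalRing (X.presheaf.stalk x)) :
    Pi1.IsNormalScheme X := fun x => by
  haveI := hreg x
  exact ⟨inferInstance, NormalLib.isIntegrallyClosed_of_isRegularLocalRing _⟩

/-- A lattice basis at a point of codimension one. -/
theorem exists_lattice (hX : Pi1.IsNormalScheme X) {F : X.Modules} (hF : Coh.IsCoh F)
    (B : Module.Basis (Fin r) (X.presheaf.stalk (genericPoint X)) (F.presheaf.stalk (genericPoint X)))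
    {x : X} (hx : Order.coheight x = 1) :
    ∃ m : Fin r → F.presheaf.stalk x, B.det (fun j => spec F x (m j)) ≠ 0 ∧
      (∀ v : F.presheaf.stalk x, ∃ c : Fin r → X.presheaf.stalk x,
        spec F x v = ∑ i, algebraMap _ X.functionField (c i) • spec F x (m i)) := by
  classical
  let R := X.presheaf.stalk x
  haveI := hF.1
  haveI := CDivCoreLib.isDVR_of_coheight hX hx
  haveI : Module.Finite R (F.presheaf.stalk x) := DepthLib.finite_stalk F hF.2 x
  letI : Module X.functionField (F.presheaf.stalk (genericPoint X)) :=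
    inferInstanceAs (Module (X.presheaf.stalk (genericPoint X)) (F.presheaf.stalk (genericPoint X)))
  letI : Module R (F.presheaf.stalk (genericPoint X)) := Module.compHom _ (algebraMap R X.functionField)
  haveI : IsScalarTower R X.functionField (F.presheaf.stalk (genericPoint X)) :=
    IsScalarTower.of_algebraMap_smul fun _ _ => rfl
  let l : F.presheaf.stalk x →ₗ[R] F.presheaf.stalk (genericPoint X) :=
    { toFun := spec F x
      map_add' := fun a b => map_add _ a b
      map_smul' := fun a v => spec_smul F x a v }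
  have hgen : ∀ w, ∃ k : X.functionField, k ≠ 0 ∧ ∃ v, k • w = l v := fun w =>
    Ref1Lib.exists_smul_eq_spec F x w
  haveI : Module.IsTorsionFree R X.functionField := inferInstance
  haveI : Module.IsTorsionFree R (F.presheaf.stalk (genericPoint X)) :=
    Module.IsTorsionFree.of_smul_eq_zero fun a w h => by
      rcases smul_eq_zero.1 (show algebraMap R X.functionField a • w = 0 from h) with h0 | h0
      · exact Or.inl ((map_eq_zero_iff _ (IsFractionRing.injective R X.functionField)).1 h0)
      · exact Or.inr h0
  haveI : Module.Finite R (LinearMap.range l) := Module.Finite.range l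
  haveI : Module.Free R (LinearMap.range l) := Module.free_of_finite_type_torsion_free'
  let e := Module.Free.chooseBasis R (LinearMap.range l)
  let v : Module.Free.ChooseBasisIndex R (LinearMap.range l) → F.presheaf.stalk (genericPoint X) :=
    fun i => (e i : F.presheaf.stalk (genericPoint X))
  have hliR : LinearIndependent R v :=
    e.linearIndependent.map' (LinearMap.range l).subtype (Submodule.ker_subtype _)
  have hliK : LinearIndependent X.functionField v :=
    (LinearIndependent.iff_fractionRing R X.functionField).1 hliR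
  have hspanR : ∀ w : F.presheaf.stalk x, ∃ c : _ → R, l w = ∑ i, c i • v i := fun w =>
    ⟨fun i => e.repr ⟨l w, w, rfl⟩ i, by
      have h := congrArg (LinearMap.range l).subtype (e.sum_repr ⟨l w, w, rfl⟩)
      rw [map_sum] at h
      exact h.symm.trans (Finset.sum_congr rfl fun i _ => map_smul (LinearMap.range l).subtype _ _)⟩
  have hspanK : ⊤ ≤ Submodule.span X.functionField (Set.range v) := fun w _ => by
    obtain ⟨k, hk, u, hu⟩ := hgen w
    obtain ⟨c, hc⟩ := hspanR u
    have h1 : k • w ∈ Submodule.span X.functionField (Set.range v) := by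
      rw [hu, hc]
      exact Submodule.sum_mem _ fun i _ =>
        Submodule.smul_mem _ (algebraMap R X.functionField (c i)) (Submodule.subset_span ⟨i, rfl⟩)
    have h2 := Submodule.smul_mem _ k⁻¹ h1
    rwa [inv_smul_smul₀ hk] at h2
  let Bv := Module.Basis.mk hliK hspanK
  let B' : Module.Basis (Fin r) X.functionField (F.presheaf.stalk (genericPoint X)) := B
  let Br := Bv.reindex (Bv.indexEquiv B')
  choose m hm using fun i => (e ((Bv.indexEquiv B').symm i)).2
  have hBr : ∀ i, Br i = spec F x (m i) := fun i => by
    rw [Module.Basis.reindex_apply, Module.Basis.mk_apply]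
    exact (hm i).symm
  refine ⟨m, ?_, fun w => ?_⟩
  · rw [show (fun j => spec F x (m j)) = ⇑Br from funext fun j => (hBr j).symm]
    exact (B'.isUnit_det Br).ne_zero
  · obtain ⟨c, hc⟩ := hspanR w
    refine ⟨fun i => c ((Bv.indexEquiv B').symm i), hc.trans ?_⟩
    refine (Fintype.sum_equiv (Bv.indexEquiv B') _ _ fun i => ?_)
    show algebraMap R X.functionField (c i) • v i = _
    dsimp only
    rw [Equiv.symm_apply_apply, ← hBr, Module.Basis.reindex_apply, Equiv.symm_apply_apply,
      Module.Basis.mk_apply]

/-- The double dual of the determinant: invertibility and the orders of its rational sections. -/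
theorem exists_ddual_data (hreg : ∀ x : X, IsRegularLocalRing (X.presheaf.stalk x))
    {F L : X.Modules} (hF : Coh.IsCoh F)
    (hb : Nonempty (Module.Basis (Fin r) (X.presheaf.stalk (genericPoint X))
      (F.presheaf.stalk (genericPoint X))))
    (hL : ExtPow.IsExtPow r F L) :
    PicF.IsInvertible (RefHull.ddual L) ∧
    ∃ (B : Module.Basis (Fin r) (X.presheaf.stalk (genericPoint X)) (F.presheaf.stalk (genericPoint X)))
      (ν : (RefHull.ddual L).presheaf.stalk (genericPoint X)), ν ≠ 0 ∧
      (∀ d : X.presheaf.stalk (genericPoint X), d ≠ 0 → d • ν ≠ 0) ∧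
      ∀ (x : X) (hx : Order.coheight x = 1) (m : Fin r → F.presheaf.stalk x),
        B.det (fun j => spec F x (m j)) ≠ 0 →
        (∀ v : F.presheaf.stalk x, ∃ c : Fin r → X.presheaf.stalk x,
          spec F x v = ∑ i, algebraMap _ X.functionField (c i) • spec F x (m i)) →
        ∀ d : X.presheaf.stalk (genericPoint X), d ≠ 0 →
          Cyc.secOrdAt (RefHull.ddual L) (genericPoint X) x (specializes_generic x)
            (Submodule.Quotient.mk (d • ν)) =
          Scheme.ord (X := X) d x - Scheme.ord (X := X) (B.det (fun j => spec F x (m j))) x := by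
  have hX := isNormal_of_regular hreg
  have hLc := RhoBigLib.isCoh_of_isExtPow hF hL
  obtain ⟨B, V, hV, σ, hσ, hwedge, hspan⟩ := exists_det hF hb hL
  let β := RefHull.bidualMap L
  have hσ' : AmpleLib.GenOn (RefHull.ddual L) (β.app V σ) :=
    Ref1Lib.genOn_map β hσ fun y hy => Ref1Lib.bijective_bidual_of_free hLc (hσ.genAt hy)
  have hN : RefHull.IsRef1 (RefHull.ddual L) :=
    ⟨RefHullLib.isCoh_dual (RefHullLib.isCoh_dual hLc), Ref1Lib.isReflexive_dual' (RefHullLib.isCoh_dual hLc),
      Ref1Lib.genInvertible_of_genOn hV _ hσ'⟩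
  refine ⟨?_, B, ?_⟩
  · have hg : ∀ x : X, ∃ (U : X.Opens) (_ : x ∈ U) (τ : Γ(RefHull.ddual L, U)),
        AmpleLib.GenOn (RefHull.ddual L) τ := fun x => by
      haveI := hreg x
      haveI := PurityLib.ufd_of_regular (X.presheaf.stalk x)
      obtain ⟨t, ht⟩ := Ref1Lib.exists_freeGen_of_ufd hN x
      exact Ref1Lib.exists_genOn_of_freeGen hN ht
    choose U hU τ hτ using hg
    exact TwistLib.isInvertible_of_genOn U (fun x => ⟨x, hU x⟩) τ hτ
  let ω := L.presheaf.germ V _ hV σ
  let ν := RefHull.stalkMapₗ β (genericPoint X) ω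
  have hνgen : Ref1Lib.FreeGen (RefHull.ddual L) (genericPoint X) ν :=
    Ref1Lib.freeGen_map β (hσ.genAt hV) (Ref1Lib.bijective_bidual_of_free hLc (hσ.genAt hV))
  have hdν : ∀ d : X.presheaf.stalk (genericPoint X), d ≠ 0 → d • ν ≠ 0 := fun d hd h0 =>
    hd (hνgen.1 (by simpa using h0))
  refine ⟨ν, Ref1Lib.freeGen_ne_zero hνgen, hdν, fun x hx m hm0 hm d hd => ?_⟩
  let c : X.functionField := B.det (fun j => spec F x (m j))
  have hd1 : ringKrullDim (X.presheaf.stalk x) ≤ 1 := by
    rw [ringKrullDim_stalk_eq_coheight, hx]; rfl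
  obtain ⟨t, ht⟩ := hwedge x m
  have hτ : spec (RefHull.ddual L) x (RefHull.stalkMapₗ β x t) = c • ν := by
    rw [spec_map, ht]
    exact map_smul (RefHull.stalkMapₗ β (genericPoint X)) _ _
  have hinj := Ref1Lib.spec_injective hN x
  have hfree : Ref1Lib.FreeGen (RefHull.ddual L) x (RefHull.stalkMapₗ β x t) := by
    refine ⟨fun a b hab => ?_, fun n => ?_⟩
    · dsimp only at hab
      have h := congrArg (spec (RefHull.ddual L) x) hab
      rw [spec_smul, spec_smul, hτ, smul_smul, smul_smul] at h
      exact IsFractionRing.injective (X.presheaf.stalk x) X.functionField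
        (mul_right_cancel₀ hm0 (hνgen.1 h))
    · obtain ⟨l, rfl⟩ := RefHullLib.surjective_bidual_stalk_of_dim_le_one hX hLc hd1 n
      obtain ⟨a, ha⟩ := hspan x m hm l
      refine ⟨a, hinj ?_⟩
      show spec _ x (a • RefHull.stalkMapₗ β x t) = _
      rw [spec_smul, hτ, spec_map, ha, smul_smul]
      exact (map_smul (RefHull.stalkMapₗ β (genericPoint X)) _ _).symm
  rw [Ref1Lib.secOrdAt_free (RefHull.ddual L) hx _ (hdν d hd) hfree (φ := d * c⁻¹) (by
    rw [hτ, smul_smul]
    exact congrArg (· • ν) (inv_mul_cancel_right₀ (G₀ := X.functionField) hm0 d).symm)]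
  exact (Scheme.ord_mul (X := X) hd (inv_ne_zero hm0)).trans (by rw [CDivCoreLib.ord_inv hm0]; ring)

end DetModLib

end
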