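import Groth.Agent.DetModLib.Cartier
import Groth.Agent.CycLimLib.Sheaf
import Groth.Agent.DevissLib.ClosedImm
import Groth.Agent.ProjBunLib.Ses
import Groth.Agent.KFlatLib.StalkPull

/-!
# The determinant of an elementary modification
-/

set_option autoImplicit false
set_option linter.style.haveILetI false
universe u

open CategoryTheory CategoryTheory.Limits AlgebraicGeometry TopologicalSpace

noncomputable section

namespace DetModLib

open Ref1Lib (spec spec_germ spec_smul spec_map)
open RefHullLib (specializes_generic mem_of_nonempty)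

variable {X : Scheme.{u}} [IsIntegral X] [IsLocallyNoetherian X] {r s : ℕ}
  {F F' P : X.Modules} (a : F ⟶ F') (b : F' ⟶ P) (w : a ≫ b = 0)

omit [IsIntegral X] [IsLocallyNoetherian X] in
include w in
theorem stalk_exact (hex : (ShortComplex.mk a b w).Exact) [Epi b] (x : X) :
    Function.Surjective (RefHull.stalkMapₗ b x) ∧
      ∀ v, RefHull.stalkMapₗ b x v = 0 → ∃ u, RefHull.stalkMapₗ a x u = v := by
  refine ⟨fun p => ?_, fun v hv => ?_⟩
  · exact (ModuleCat.epi_iff_surjective ((DerSch.stalkFunctor X x).map b)).1 inferInstance p
  · exact (ShortComplex.moduleCat_exact_iff _).1 (hex.map (DerSch.stalkFunctor X x)) v hv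

/-- Stalks of the direct image of a locally free module of rank `s` on an integral subscheme at its generic point. -/
theorem push_generic (I : X.IdealSheafData) [IsIntegral I.subscheme] (G : I.subscheme.Modules)
    (hG : FlatMod.IsFinLocFreeOfRank s G) :
    Module.length (X.presheaf.stalk (dlt I))
        (((Scheme.Modules.pushforward I.subschemeι).obj G).presheaf.stalk (dlt I)) = s ∧
      ∀ c : X.presheaf.stalk (dlt I), I.subschemeι.stalkMap (genericPoint I.subscheme) c = 0 →
        ∀ p : ((Scheme.Modules.pushforward I.subschemeι).obj G).presheaf.stalk (dlt I), c • p = 0 := by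
  let i := I.subschemeι
  let z := genericPoint I.subscheme
  let σ := (TopCat.Presheaf.stalkPushforward AddCommGrpCat i.base G.presheaf z).hom
  have hbij := DegPullLib.bijective_stalkPushforward i i.isClosedEmbedding.isClosedMap G z
    fun y hy => i.isClosedEmbedding.injective hy
  refine ⟨?_, fun c hc p => hbij.1 ?_⟩
  · letI : Algebra (X.presheaf.stalk (i z)) (I.subscheme.presheaf.stalk z) := (i.stalkMap z).hom.toAlgebra
    letI : Module (X.presheaf.stalk (i z)) (G.presheaf.stalk z) := Module.compHom _ (i.stalkMap z).hom
    haveI : IsScalarTower (X.presheaf.stalk (i z)) (I.subscheme.presheaf.stalk z) (G.presheaf.stalk z) :=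
      IsScalarTower.of_compHom _ _ _
    let σ' : ((Coh.push i).obj G).presheaf.stalk (i z) →ₗ[X.presheaf.stalk (i z)] G.presheaf.stalk z :=
      { toFun := fun q => σ q
        map_add' := fun q q' => map_add σ q q'
        map_smul' := fun c q => DegPullLib.stalkPushforward_smul i G z c q }
    let e := LinearEquiv.ofBijective σ' hbij
    obtain ⟨f⟩ := ProjBunLib.free_stalk_of_rank hG z
    let f' : G.presheaf.stalk z ≃ₗ[I.subscheme.presheaf.stalk z] (Fin s → I.subscheme.presheaf.stalk z) := f
    haveI : IsSimpleModule (I.subscheme.presheaf.stalk z) (I.subscheme.presheaf.stalk z) :=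
      inferInstanceAs (IsSimpleModule I.subscheme.functionField I.subscheme.functionField)
    show Module.length (X.presheaf.stalk (i z)) (((Coh.push i).obj G).presheaf.stalk (i z)) = s
    rw [e.length_eq, Module.length_eq_of_surjective (R := I.subscheme.presheaf.stalk z)
      (i.stalkMap_surjective z), f'.length_eq, Module.length_pi_of_fintype]
    simp
  · refine (DegPullLib.stalkPushforward_smul i G z c p).trans ?_
    have h0 : ∀ q : G.presheaf.stalk z, i.stalkMap z c • q = 0 := fun q => by rw [hc, zero_smul]
    exact (h0 _).trans (map_zero σ).symm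

/-- A quotient of `R^r` killed by a maximal ideal has length at most `r`. -/
theorem length_le_of_killed {R M : Type*} [CommRing R] [AddCommGroup M] [Module R M] (J : Ideal R) [J.IsMaximal]
    (π : (Fin r → R) →ₗ[R] M) (hπ : Function.Surjective π) (hJ : ∀ c ∈ J, ∀ v : M, c • v = 0) :
    Module.length R M ≤ r := by
  classical
  haveI : IsSimpleModule R (R ⧸ J) := isSimpleModule_iff_isCoatom.2 (Ideal.IsMaximal.out)
  let l : (Fin r → R ⧸ J) →ₗ[R] M := LinearMap.lsum R (fun _ : Fin r => R ⧸ J) R fun i =>
    J.liftQ (LinearMap.toSpanSingleton R M (π (Pi.single i 1))) fun c hc => hJ c hc _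
  refine (Module.length_le_of_surjective l fun v => ?_).trans ?_
  · obtain ⟨d, rfl⟩ := hπ v
    refine ⟨fun i => Submodule.Quotient.mk (d i), ?_⟩
    conv_rhs => rw [show d = ∑ i, d i • (Pi.single i (1 : R) : Fin r → R) from
      (pi_eq_sum_univ' d)]
    simp [l, LinearMap.lsum_apply, map_sum]
    exact Finset.sum_congr rfl fun i _ => rfl
  · rw [Module.length_pi_of_fintype]
    simp

end DetModLib

end
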