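import Groth.Agent.DetModLib.Div
import Groth.Agent.S0612

/-!
# Determinants of elementary modifications at a point of codimension one
-/

set_option autoImplicit false
set_option linter.style.haveILetI false
universe u

open CategoryTheory AlgebraicGeometry TopologicalSpace

noncomputable section

namespace DetModLib

open Ref1Lib (spec spec_germ spec_smul spec_map)

variable {X : Scheme.{u}} [IsIntegral X] [IsLocallyNoetherian X] {r : ℕ}

/-- The order of a regular function is the length of the quotient by it. -/
theorem ord_algebraMap {x : X} (hx : Order.coheight x = 1) {a : X.presheaf.stalk x} (ha : a ≠ 0) :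
    Scheme.ord (algebraMap (X.presheaf.stalk x) X.functionField a) x =
      ((Ring.ord (X.presheaf.stalk x) a).toNat : ℤ) := by
  haveI : Ring.KrullDimLE 1 (X.presheaf.stalk x) := krullDimLE_of_coheight_le hx.le
  have hfin : Ring.ord (X.presheaf.stalk x) a ≠ ⊤ := Module.length_ne_top_iff.mpr
    (isFiniteLength_quotient_span_singleton _ (mem_nonZeroDivisors_of_ne_zero ha))
  obtain ⟨m, hm⟩ := ENat.ne_top_iff_exists.mp hfin
  rw [Scheme.ord_eq_iff hx ((map_ne_zero_iff _ (IsFractionRing.injective _ X.functionField)).2 ha)]
  refine (Ring.ordFrac_eq_ord (K := X.functionField) (X.presheaf.stalk x) ha).trans ?_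
  simp [Ring.ordMonoidWithZeroHom, ← hm]
  exact ha

/-- The matrix of a modification in lattice bases, and the cokernel bound. -/
theorem exists_matrix (hX : Pi1.IsNormalScheme X) {F F' : X.Modules} (a : F ⟶ F')
    (B : Module.Basis (Fin r) (X.presheaf.stalk (genericPoint X)) (F.presheaf.stalk (genericPoint X)))
    (B' : Module.Basis (Fin r) (X.presheaf.stalk (genericPoint X)) (F'.presheaf.stalk (genericPoint X)))
    (hd : B'.det (fun j => RefHull.stalkMapₗ a (genericPoint X) (B j)) ≠ 0)
    {x : X} (hx : Order.coheight x = 1) (m : Fin r → F.presheaf.stalk x)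
    (hm0 : B.det (fun j => spec F x (m j)) ≠ 0)
    (hm : ∀ v : F.presheaf.stalk x, ∃ c : Fin r → X.presheaf.stalk x,
      spec F x v = ∑ i, algebraMap _ X.functionField (c i) • spec F x (m i))
    (m' : Fin r → F'.presheaf.stalk x) (hm0' : B'.det (fun j => spec F' x (m' j)) ≠ 0)
    (hm' : ∀ v : F'.presheaf.stalk x, ∃ c : Fin r → X.presheaf.stalk x,
      spec F' x v = ∑ i, algebraMap _ X.functionField (c i) • spec F' x (m' i))
    {P : Type*} [AddCommGroup P] [Module (X.presheaf.stalk x) P]
    (β : F'.presheaf.stalk x →ₗ[X.presheaf.stalk x] P) (hβ : Function.Surjective β)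
    (hker : ∀ v, β v = 0 → ∃ u, RefHull.stalkMapₗ a x u = v) :
    ∃ A : Matrix (Fin r) (Fin r) (X.presheaf.stalk x),
      Scheme.ord (X := X) (B'.det (fun j => RefHull.stalkMapₗ a (genericPoint X) (B j))) x +
          Scheme.ord (X := X) (B.det (fun j => spec F x (m j))) x =
        Scheme.ord (X := X) (B'.det (fun j => spec F' x (m' j))) x +
          ((Module.length (X.presheaf.stalk x)
            ((Fin r → X.presheaf.stalk x) ⧸ LinearMap.range A.mulVecLin)).toNat : ℤ) ∧
      ∃ g : P →ₗ[X.presheaf.stalk x] (Fin r → X.presheaf.stalk x) ⧸ LinearMap.range A.mulVecLin,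
        Function.Surjective g := by
  classical
  let R := X.presheaf.stalk x
  let ι := algebraMap R X.functionField
  have hιinj : Function.Injective ι := IsFractionRing.injective R X.functionField
  -- coordinates in the lattice of `F'`
  have hli : LinearIndependent (X.presheaf.stalk (genericPoint X)) (fun j => spec F' x (m' j)) :=
    (B'.is_basis_iff_det.2 (Ne.isUnit (G₀ := X.functionField) hm0')).1
  have huniq : ∀ c c' : Fin r → R,
      ∑ i, ι (c i) • spec F' x (m' i) = ∑ i, ι (c' i) • spec F' x (m' i) → c = c' := fun c c' h =>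
    funext fun i => hιinj (congrFun (Fintype.linearIndependent_iffₛ.1 hli (fun i => ι (c i)) (fun i => ι (c' i)) h |> funext) i)
  choose co hco using hm'
  let coords : F'.presheaf.stalk x →ₗ[R] (Fin r → R) :=
    { toFun := co
      map_add' := fun v w => huniq _ _ ((hco (v + w)).symm.trans ((map_add _ v w).trans
        ((congrArg₂ (· + ·) (hco v) (hco w)).trans (by
          rw [← Finset.sum_add_distrib]
          exact Finset.sum_congr rfl fun i _ => by rw [Pi.add_apply, map_add, add_smul]))))
      map_smul' := fun c v => huniq _ _ ((hco (c • v)).symm.trans ((spec_smul F' x c v).trans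
        ((congrArg (ι c • ·) (hco v)).trans (by
          rw [Finset.smul_sum]
          exact Finset.sum_congr rfl fun i _ => by
            rw [RingHom.id_apply, Pi.smul_apply, smul_eq_mul, map_mul, smul_smul])))) }
  have hcoords : ∀ d : Fin r → R, coords (∑ i, d i • m' i) = d := fun d => by
    refine huniq _ _ ((hco _).symm.trans ?_)
    refine (map_sum (F'.presheaf.stalkSpecializes (RefHullLib.specializes_generic x)).hom _ _).trans ?_
    exact Finset.sum_congr rfl fun i _ => spec_smul F' x (d i) (m' i)
  let A : Matrix (Fin r) (Fin r) R := Matrix.of fun i j => co (RefHull.stalkMapₗ a x (m j)) i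
  -- the determinants
  have h1 : B'.det (fun j => RefHull.stalkMapₗ a (genericPoint X) (spec F x (m j))) =
      B'.det (fun j => RefHull.stalkMapₗ a (genericPoint X) (B j)) * B.det (fun j => spec F x (m j)) := by
    rw [det_combo B' (B.toMatrix fun j => spec F x (m j)) _
      (fun j => RefHull.stalkMapₗ a (genericPoint X) (B j)) fun j => ?_, ← B.det_apply, mul_comm]
    conv_lhs => rw [← B.sum_toMatrix_smul_self (fun j => spec F x (m j)) j]
    rw [map_sum]
    exact Finset.sum_congr rfl fun i _ => map_smul _ _ _
  have h2 : B'.det (fun j => RefHull.stalkMapₗ a (genericPoint X) (spec F x (m j))) =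
      ι A.det * B'.det (fun j => spec F' x (m' j)) := by
    rw [det_combo B' (ι.mapMatrix A) (fun j => RefHull.stalkMapₗ a (genericPoint X) (spec F x (m j)))
      (fun j => spec F' x (m' j)) fun j => (spec_map a x (m j)).symm.trans (hco _)]
    exact congrArg (· * _) (RingHom.map_det ι A).symm
  have hA0 : A.det ≠ 0 := fun h0 => by
    have h := h1.symm.trans h2
    rw [h0, map_zero, zero_mul] at h
    exact mul_ne_zero (M₀ := X.functionField) hd hm0 h
  refine ⟨A, ?_, ?_⟩
  · have hlen : Module.length R ((Fin r → R) ⧸ LinearMap.range A.mulVecLin) = Ring.ord R A.det := by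
      have h := Groth.Agent.S0612.result A.mulVecLin (by
        rw [← Matrix.toLin'_apply', LinearMap.det_toLin']
        exact mem_nonZeroDivisors_of_ne_zero hA0)
      rwa [← Matrix.toLin'_apply', LinearMap.det_toLin', Matrix.toLin'_apply'] at h
    rw [hlen, ← ord_algebraMap hx hA0,
      ← Scheme.ord_mul (X := X) hd hm0, ← Scheme.ord_mul (X := X) hm0'
        ((map_ne_zero_iff _ hιinj).2 hA0)]
    exact congrArg (Scheme.ord (X := X) · x) ((h1.symm.trans h2).trans (mul_comm _ _))
  · let π := (LinearMap.range A.mulVecLin).mkQ ∘ₗ coords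
    have hπ : Function.Surjective π :=
      (Submodule.mkQ_surjective _).comp fun d => ⟨_, hcoords d⟩
    have hle : LinearMap.ker β ≤ LinearMap.ker π := fun v hv => by
      obtain ⟨w, rfl⟩ := hker v hv
      refine LinearMap.mem_ker.2 ((Submodule.Quotient.mk_eq_zero _).2 ?_)
      obtain ⟨c, hc⟩ := hm w
      refine ⟨c, (huniq _ _ ((hco _).symm.trans ?_)).symm⟩
      rw [spec_map, hc, map_sum]
      calc ∑ j, RefHull.stalkMapₗ a (genericPoint X) (ι (c j) • spec F x (m j))
          = ∑ j, ι (c j) • ∑ i, ι (A i j) • spec F' x (m' i) := Finset.sum_congr rfl fun j _ => by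
            refine (map_smul _ _ _).trans (congrArg (ι (c j) • ·) ?_)
            exact (spec_map a x (m j)).symm.trans (hco _)
        _ = ∑ i, ι (A.mulVecLin c i) • spec F' x (m' i) := by
            simp only [Finset.smul_sum, smul_smul, Matrix.mulVecLin_apply, Matrix.mulVec, dotProduct,
              map_sum, map_mul, Finset.sum_smul]
            rw [Finset.sum_comm]
            exact Finset.sum_congr rfl fun i _ => Finset.sum_congr rfl fun j _ => by rw [mul_comm]
    let e := β.quotKerEquivOfSurjective hβ
    refine ⟨(Submodule.liftQ _ π hle).comp e.symm.toLinearMap, ?_⟩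
    intro q
    obtain ⟨v, hv⟩ := hπ q
    exact ⟨e (Submodule.Quotient.mk v), (congrArg (Submodule.liftQ _ π hle) (e.symm_apply_apply _)).trans hv⟩

end DetModLib

end
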