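import Groth.Agent.DetDegLib.Main
import Groth.Agent.Ref1Lib.Factorial
import Groth.Agent.RhoBigLib.Free
import Groth.Agent.RefHullLib.BigOpen
import Groth.Agent.ProjBunLib.Ses

/-!
# Germs of top wedges of a generically free coherent module
-/

set_option autoImplicit false
set_option linter.style.haveILetI false
universe u

open CategoryTheory AlgebraicGeometry TopologicalSpace Opposite DevissLib QCohLib

noncomputable section

namespace DetModLib

open Ref1Lib (spec spec_germ spec_smul)

theorem det_combo {K M : Type*} [CommRing K] [AddCommGroup M] [Module K M] {n : ℕ}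
    (B : Module.Basis (Fin n) K M) (C : Matrix (Fin n) (Fin n) K) (v w : Fin n → M)
    (h : ∀ j, v j = ∑ i, C i j • w i) : B.det v = C.det * B.det w := by
  have h1 : B.toMatrix v = B.toMatrix w * C := by
    ext i j
    simp [Module.Basis.toMatrix_apply, Matrix.mul_apply, h j, mul_comm]
  rw [B.det_apply, B.det_apply, h1, Matrix.det_mul, mul_comm]

variable {X : Scheme.{u}} [IsIntegral X] {r : ℕ}

omit [IsIntegral X] in
/-- A basis of the sections over an affine open is a frame at every point of it. -/
theorem frameAt_of_basis {F : X.Modules} [Coh.IsQCoh F] {V : X.Opens} (hV : IsAffineOpen V)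
    (b : Module.Basis (Fin r) Γ(X, V) Γ(F, V)) {y : X} (hy : y ∈ V) : DetDegLib.FrameAt F (⇑b) hy := by
  letI := Module.compHom (F.presheaf.stalk y) (X.presheaf.germ V y hy).hom
  letI : Algebra Γ(X, V) (X.presheaf.stalk y) := (X.presheaf.germ V y hy).hom.toAlgebra
  haveI : IsScalarTower Γ(X, V) (X.presheaf.stalk y) (F.presheaf.stalk y) :=
    IsScalarTower.of_algebraMap_smul fun _ _ => rfl
  haveI : IsLocalization.AtPrime (X.presheaf.stalk y) (hV.primeIdealOf ⟨y, hy⟩).asIdeal :=
    hV.isLocalization_stalk ⟨y, hy⟩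
  haveI := FlatLib.isLocalizedModule_germLin F hV hy
  let B := b.ofIsLocalizedModule (X.presheaf.stalk y) (hV.primeIdealOf ⟨y, hy⟩).asIdeal.primeCompl
    (FlatLib.germLin F hy)
  refine (congrArg Function.Bijective (funext fun c => ?_)).mp B.equivFun.symm.bijective
  exact (B.equivFun_symm_apply c).trans (Finset.sum_congr rfl fun i _ =>
    congrArg (c i • ·) (Module.Basis.ofIsLocalizedModule_apply ..))

omit [IsIntegral X] in
theorem nonempty_basis_image {F : X.Modules} (U : X.Opens)
    (h : FlatMod.IsFinLocFreeOfRank r (F.restrict U.ι)) (q : (U : Scheme.{u})) :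
    Nonempty (Module.Basis (Fin r) (X.presheaf.stalk (U.ι q)) (F.presheaf.stalk (U.ι q))) := by
  obtain ⟨e⟩ := ProjBunLib.free_stalk_of_rank h q
  obtain ⟨σ, θ, hθ⟩ := RefHullLib.exists_restrict_stalk U.ι F q
  let e' : (F.restrict U.ι).presheaf.stalk q ≃ₗ[(U : Scheme.{u}).presheaf.stalk q]
      (Fin r → (U : Scheme.{u}).presheaf.stalk q) := e
  refine ⟨Module.Basis.ofEquivFun
    { toFun := fun a i => σ (e' (θ.symm a) i)
      map_add' := fun a b => funext fun i => ?_
      map_smul' := fun c a => funext fun i => ?_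
      invFun := fun d => θ (e'.symm fun i => σ.symm (d i))
      left_inv := fun a => ?_
      right_inv := fun d => funext fun i => ?_ }⟩
  · exact (congrArg (fun z => σ (e' z i)) (map_add θ.symm a b)).trans
      ((congrArg (fun z => σ (z i)) (map_add e' _ _)).trans (map_add σ _ _))
  · exact (congrArg (fun z => σ (e' z i)) (RefHullLib.theta_symm σ θ hθ c a)).trans
      ((congrArg (fun z => σ (z i)) (map_smul e' _ _)).trans
        ((map_mul σ _ _).trans (congrArg (· * _) (σ.apply_symm_apply c))))
  · show θ (e'.symm fun i => σ.symm (σ (e' (θ.symm a) i))) = a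
    rw [show (fun i => σ.symm (σ (e' (θ.symm a) i))) = e' (θ.symm a) from
      funext fun i => σ.symm_apply_apply _, e'.symm_apply_apply, θ.apply_symm_apply]
  · show σ (e' (θ.symm (θ (e'.symm fun i => σ.symm (d i)))) i) = d i
    rw [θ.symm_apply_apply, e'.apply_symm_apply, σ.apply_symm_apply]

/-- The generic stalk of a module which is generically locally free of rank `r`. -/
theorem nonempty_basis_generic {F : X.Modules} (U : X.Opens) (hne : (U : Set X).Nonempty)
    (h : FlatMod.IsFinLocFreeOfRank r (F.restrict U.ι)) :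
    Nonempty (Module.Basis (Fin r) (X.presheaf.stalk (genericPoint X))
      (F.presheaf.stalk (genericPoint X))) := by
  obtain ⟨y, hy⟩ := hne
  exact nonempty_basis_image U h ⟨genericPoint X, RefHullLib.mem_of_nonempty hy⟩

variable [IsLocallyNoetherian X]

/-- The wedge of the germs of a tuple of sections, through the determinant of a generic basis. -/
theorem exists_det {F L : X.Modules} (hF : Coh.IsCoh F)
    (hb : Nonempty (Module.Basis (Fin r) (X.presheaf.stalk (genericPoint X))
      (F.presheaf.stalk (genericPoint X))))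
    (hL : ExtPow.IsExtPow r F L) :
    ∃ (B : Module.Basis (Fin r) (X.presheaf.stalk (genericPoint X)) (F.presheaf.stalk (genericPoint X)))
      (V : X.Opens) (hV : genericPoint X ∈ V) (σ : Γ(L, V)), AmpleLib.GenOn L σ ∧
      (∀ (x : X) (v : Fin r → F.presheaf.stalk x), ∃ t : L.presheaf.stalk x,
        spec L x t = B.det (fun j => spec F x (v j)) • L.presheaf.germ V _ hV σ) ∧
      (∀ (x : X) (m : Fin r → F.presheaf.stalk x),
        (∀ v : F.presheaf.stalk x, ∃ c : Fin r → X.presheaf.stalk x,
          spec F x v = ∑ i, algebraMap _ X.functionField (c i) • spec F x (m i)) →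
        ∀ t : L.presheaf.stalk x, ∃ c : X.presheaf.stalk x,
          spec L x t = (algebraMap _ X.functionField c * B.det (fun j => spec F x (m j))) •
            L.presheaf.germ V _ hV σ) := by
  classical
  obtain ⟨B₀⟩ := hb
  haveI := hF.1
  haveI : Module.Free (X.presheaf.stalk (genericPoint X)) (F.presheaf.stalk (genericPoint X)) :=
    Module.Free.of_basis B₀
  obtain ⟨V, hVa, hV, _, _⟩ := RhoBigLib.exists_affine_free F (QCohLib.isFP_of_isCoh F hF) (genericPoint X)
  obtain ⟨φ, hφ⟩ := hL
  let η := genericPoint X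
  let K := X.presheaf.stalk η
  -- a frame on `V`
  let b₁ := Module.Free.chooseBasis Γ(X, V) Γ(F, V)
  letI := Module.compHom (F.presheaf.stalk η) (X.presheaf.germ V η hV).hom
  letI : Algebra Γ(X, V) K := (X.presheaf.germ V η hV).hom.toAlgebra
  haveI : IsScalarTower Γ(X, V) K (F.presheaf.stalk η) := IsScalarTower.of_algebraMap_smul fun _ _ => rfl
  haveI : IsLocalization.AtPrime K (hVa.primeIdealOf ⟨η, hV⟩).asIdeal := hVa.isLocalization_stalk ⟨η, hV⟩
  haveI := FlatLib.isLocalizedModule_germLin F hVa hV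
  let S := (hVa.primeIdealOf ⟨η, hV⟩).asIdeal.primeCompl
  let b := b₁.reindex ((b₁.ofIsLocalizedModule K S (FlatLib.germLin F hV)).indexEquiv B₀)
  let B := b.ofIsLocalizedModule K S (FlatLib.germLin F hV)
  have hB : ∀ i, B i = F.presheaf.germ V η hV (b i) := fun i => Module.Basis.ofIsLocalizedModule_apply ..
  let Va : X.affineOpens := ⟨V, hVa⟩
  let σ : Γ(L, V) := DetDegLib.wsec φ Va b
  let ω := L.presheaf.germ V η hV σ
  have hfr : ∀ (y : X) (hy : y ∈ V), DetDegLib.FrameAt F (⇑b) hy := fun y hy => frameAt_of_basis hVa b hy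
  -- compatibility with all wedges
  have key : ∀ (U : X.affineOpens) (hU : η ∈ U.1) (e : Fin r → Γ(F, U.1)),
      L.presheaf.germ U.1 η hU (DetDegLib.wsec φ U e) =
        B.det (fun j => F.presheaf.germ U.1 η hU (e j)) • ω := by
    intro U hU e
    obtain ⟨W, hWa, hW, hWle⟩ :=
      exists_isAffineOpen_mem_and_subset (x := η) (U := U.1 ⊓ V) ⟨hU, hV⟩
    let Wa : X.affineOpens := ⟨W, hWa⟩
    have hWU : W ≤ U.1 := fun z hz => (hWle hz).1
    have hWV : W ≤ V := fun z hz => (hWle hz).2
    have hfrW : ∀ (y : X) (hy : y ∈ W),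
        DetDegLib.FrameAt F (fun i => F.presheaf.map (homOfLE hWV).op (b i)) hy :=
      fun y hy => (DetDegLib.frameAt_res hWV b hy).mpr (hfr y _)
    choose C hC using fun j => (DetDegLib.frame_bijective hWa _ hfrW).2 (F.presheaf.map (homOfLE hWU).op (e j))
    let G : Matrix (Fin r) (Fin r) Γ(X, W) := Matrix.of fun i j => C j i
    have h1 := DetDegLib.wsec_matrix φ Wa _ (fun j => F.presheaf.map (homOfLE hWU).op (e j)) hfrW G
      fun j => (hC j).symm
    rw [← DetDegLib.wsec_res φ hφ U Wa hWU e, ← DetDegLib.wsec_res φ hφ Va Wa hWV b] at h1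
    have h2 := congrArg (L.presheaf.germ W η hW) h1
    rw [TopCat.Presheaf.germ_res_apply, Mero.germ_smul, TopCat.Presheaf.germ_res_apply] at h2
    refine h2.trans (congrArg (· • ω) ?_)
    rw [det_combo B ((X.presheaf.germ W η hW).hom.mapMatrix G) _ B fun j => ?_, B.det_self, mul_one]
    · exact RingHom.map_det _ _
    · have h3 := congrArg (F.presheaf.germ W η hW) (hC j)
      rw [TopCat.Presheaf.germ_res_apply, map_sum] at h3
      refine h3.symm.trans (Finset.sum_congr rfl fun i _ => ?_)
      rw [Mero.germ_smul, TopCat.Presheaf.germ_res_apply, hB]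
      rfl
  refine ⟨B, V, hV, σ, TwistLib.genOn_of_genAt fun y hy => DetDegLib.frameAt_wsec φ hφ Va b hfr hy,
    fun x v => ?_, fun x m hm t => ?_⟩
  · choose U₀ hU₀ s hs using fun j => F.presheaf.exists_germ_eq (x := x) (v j)
    obtain ⟨W, hxW, -, hW₀⟩ := RefHullLib.exists_nhd_all x U₀ hU₀ ⊤ trivial
    obtain ⟨U, hUa, hxU, hUW⟩ := exists_isAffineOpen_mem_and_subset (x := x) (U := W) hxW
    let e : Fin r → Γ(F, U) := fun j => F.presheaf.map (homOfLE (hUW.trans (hW₀ j))).op (s j)
    refine ⟨L.presheaf.germ U x hxU (DetDegLib.wsec φ ⟨U, hUa⟩ e), ?_⟩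
    rw [spec_germ]
    refine (key ⟨U, hUa⟩ (RefHullLib.mem_of_nonempty hxU) e).trans ?_
    congr 2
    funext j
    rw [← hs j, spec_germ]
    exact TopCat.Presheaf.germ_res_apply F.presheaf _ _ _ _
  · obtain ⟨W, hxW, s, rfl⟩ := L.presheaf.exists_germ_eq (x := x) t
    obtain ⟨U, hUa, hxU, hUW⟩ := exists_isAffineOpen_mem_and_subset (x := x) (U := W) hxW
    rw [← TopCat.Presheaf.germ_res_apply L.presheaf (homOfLE hUW) x hxU s, spec_germ]
    let Ua : X.affineOpens := ⟨U, hUa⟩
    let hη : η ∈ U := RefHullLib.mem_of_nonempty hxU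
    suffices hall : ∀ z, ∃ c : X.presheaf.stalk x, L.presheaf.germ U η hη ((φ Ua).symm z) =
        (algebraMap _ X.functionField c * B.det (fun j => spec F x (m j))) • ω by
      obtain ⟨c, hc⟩ := hall (φ Ua (L.presheaf.map (homOfLE hUW).op s))
      exact ⟨c, (congrArg (L.presheaf.germ U η hη) ((φ Ua).symm_apply_apply _).symm).trans hc⟩
    intro z
    have hz : z ∈ Submodule.span Γ(X, U) (Set.range (exteriorPower.ιMulti Γ(X, U) r
        (M := F.val.obj (op U)))) := by
      rw [exteriorPower.ιMulti_span]; trivial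
    induction hz using Submodule.span_induction with
    | mem z hz =>
      obtain ⟨e, rfl⟩ := hz
      choose c hc using fun j => hm (F.presheaf.germ U x hxU (e j))
      let G : Matrix (Fin r) (Fin r) (X.presheaf.stalk x) := Matrix.of fun i j => c j i
      refine ⟨G.det, (key Ua hη e).trans (congrArg (· • ω) ?_)⟩
      refine (det_combo B ((algebraMap (X.presheaf.stalk x) X.functionField).mapMatrix G)
        (fun j => F.presheaf.germ U η hη (e j)) (fun j => spec F x (m j))
        (fun j => ((spec_germ F hxU (e j)).symm.trans (hc j)))).trans ?_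
      exact congrArg (· * _) (RingHom.map_det _ _).symm
    | zero =>
      refine ⟨0, ?_⟩
      rw [map_zero (φ Ua).symm]
      exact (map_zero _).trans (by rw [map_zero, zero_mul, zero_smul])
    | add z₁ z₂ _ _ h₁ h₂ =>
      obtain ⟨c₁, h₁⟩ := h₁
      obtain ⟨c₂, h₂⟩ := h₂
      refine ⟨c₁ + c₂, ?_⟩
      rw [map_add (φ Ua).symm]
      exact (map_add (L.presheaf.germ U η hη).hom _ _).trans ((congrArg₂ (· + ·) h₁ h₂).trans
        (by rw [map_add, add_mul, add_smul]))
    | smul a z _ h =>
      obtain ⟨c, h⟩ := h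
      refine ⟨X.presheaf.germ U x hxU a * c, ?_⟩
      refine (congrArg (L.presheaf.germ U η hη) (map_smul (φ Ua).symm a z)).trans ?_
      refine (Mero.germ_smul L U η hη a _).trans ?_
      refine (congrArg (X.presheaf.germ U η hη a • ·) h).trans ?_
      rw [smul_smul, ← mul_assoc, map_mul]
      congr 3
      exact (TopCat.Presheaf.germ_stalkSpecializes_apply X.presheaf hxU _ a).symm

end DetModLib

end
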